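import Mathlib

/-!
# S3414, task G3: orbit counting, `r`-parts of intersections with conjugates (helper372)
-/

set_option autoImplicit false

namespace Cfsg.Agent.H372.Tits

open MulAction

universe u v

variable {G : Type u} [Group G] {V : Type v} [MulAction G V]

theorem card_subgroupOf' {H K : Subgroup G} : Nat.card ↥(H.subgroupOf K) = Nat.card ↥(H ⊓ K) := by
  rw [← Subgroup.inf_subgroupOf_right]
  exact Nat.card_congr (Subgroup.subgroupOfEquivOfLe inf_le_right).toEquiv

/-- orbit counting for subgroups -/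
theorem orb_card (X : Subgroup G) (a : V) :
    Nat.card ↥X = {b : V | ∃ g ∈ X, g • a = b}.ncard * Nat.card ↥(X ⊓ stabilizer G a) := by
  have h1 := (stabilizer ↥X a).card_mul_index
  rw [index_stabilizer] at h1
  have h2 : stabilizer ↥X a = (stabilizer G a).subgroupOf X := by
    ext g
    rfl
  have h3 : orbit ↥X a = {b : V | ∃ g ∈ X, g • a = b} := by
    ext b
    constructor
    · rintro ⟨g, hg⟩
      exact ⟨g, g.2, hg⟩
    · rintro ⟨g, hg, h⟩
      exact ⟨⟨g, hg⟩, h⟩
  rw [h2, card_subgroupOf', h3, inf_comm] at h1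
  rw [← h1, mul_comm]

/-- `[N : N ∩ Y]` divides `[G : Y]` for a normal subgroup `N` -/
theorem relIndex_dvd_index' [Finite G] (N Y : Subgroup G) [N.Normal] : Y.relIndex N ∣ Y.index := by
  obtain ⟨c, hc⟩ := Subgroup.relIndex_dvd_index_of_normal N Y
  have h1 : Nat.card ↥(Y ⊓ N) * Y.relIndex N = Nat.card ↥N := by
    have := (Y.subgroupOf N).card_mul_index
    rwa [card_subgroupOf'] at this
  have h2 : Nat.card ↥(Y ⊓ N) * N.relIndex Y = Nat.card ↥Y := by
    have := (N.subgroupOf Y).card_mul_index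
    rwa [card_subgroupOf', inf_comm] at this
  have h3 := N.card_mul_index
  have h4 := Y.card_mul_index
  refine ⟨c, ?_⟩
  have h5 : 0 < Nat.card ↥Y := Nat.card_pos
  apply Nat.eq_of_mul_eq_mul_left h5
  rw [h4, ← h3, hc, ← h1, ← h2]
  ring

/-- relative version -/
theorem relIndex_dvd_relIndex [Finite G] {N X Y : Subgroup G} (hN : N ≤ X) (hn : (N.subgroupOf X).Normal) :
    Y.relIndex N ∣ Y.relIndex X := by
  have h := relIndex_dvd_index' (N.subgroupOf X) (Y.subgroupOf X)
  rwa [Subgroup.relIndex_subgroupOf hN] at h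

/-- the `r`-part of `|E|` is at most the `r`-part of the index of `H` times that of `|E ∩ H ^ g|`, for some `g` -/
theorem exists_conj [Finite G] {r : ℕ} (hr : r.Prime) (E H : Subgroup G) : ∃ g : G,
    (Nat.card ↥E).factorization r ≤ H.index.factorization r +
      (Nat.card ↥(E ⊓ H.map (MulAut.conj g).toMonoidHom)).factorization r := by
  have : Fact r.Prime := ⟨hr⟩
  obtain ⟨R0⟩ : Nonempty (Sylow r ↥E) := inferInstance
  obtain ⟨Q0⟩ : Nonempty (Sylow r ↥H) := inferInstance
  set R : Subgroup G := (R0 : Subgroup ↥E).map E.subtype with hR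
  set Q : Subgroup G := (Q0 : Subgroup ↥H).map H.subtype with hQ
  have hRg : IsPGroup r ↥R := R0.2.map _
  have hQg : IsPGroup r ↥Q := Q0.2.map _
  have hRc : Nat.card ↥R = r ^ (Nat.card ↥E).factorization r := by
    rw [hR, Nat.card_congr ((R0 : Subgroup ↥E).equivMapOfInjective _ E.subtype_injective).toEquiv.symm]
    exact R0.card_eq_multiplicity
  have hQc : Nat.card ↥Q = r ^ (Nat.card ↥H).factorization r := by
    rw [hQ, Nat.card_congr ((Q0 : Subgroup ↥H).equivMapOfInjective _ H.subtype_injective).toEquiv.symm]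
    exact Q0.card_eq_multiplicity
  obtain ⟨P1, hP1⟩ := hRg.exists_le_sylow
  obtain ⟨P2, hP2⟩ := hQg.exists_le_sylow
  obtain ⟨g, hg⟩ := MulAction.exists_smul_eq G P2 P1
  refine ⟨g, ?_⟩
  have hQ' : Q.map (MulAut.conj g).toMonoidHom ≤ (P1 : Subgroup G) := by
    rw [← hg]
    rintro _ ⟨x, hx, rfl⟩
    rw [Sylow.coe_subgroup_smul]
    exact Subgroup.smul_mem_pointwise_smul x (MulAut.conj g) _ (hP2 hx)
  set Qg := Q.map (MulAut.conj g).toMonoidHom with hQgd
  have hQgc : Nat.card ↥Qg = r ^ (Nat.card ↥H).factorization r := by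
    rw [hQgd, ← hQc]
    exact Nat.card_congr (Q.equivMapOfInjective _ (MulAut.conj g).injective).toEquiv.symm
  have hPc : Nat.card ↥(P1 : Subgroup G) = r ^ (Nat.card G).factorization r := P1.card_eq_multiplicity
  -- the product bound
  have h1 : (R ⊓ Qg).relIndex (P1 : Subgroup G) ≤ R.relIndex (P1 : Subgroup G) * Qg.relIndex (P1 : Subgroup G) :=
    Subgroup.relIndex_inf_le
  have h2 : Nat.card ↥(R ⊓ Qg) * (R ⊓ Qg).relIndex (P1 : Subgroup G) = Nat.card ↥(P1 : Subgroup G) := by
    have := ((R ⊓ Qg).subgroupOf (P1 : Subgroup G)).card_mul_index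
    rwa [card_subgroupOf', inf_eq_left.2 (inf_le_left.trans hP1)] at this
  have h3 : Nat.card ↥R * R.relIndex (P1 : Subgroup G) = Nat.card ↥(P1 : Subgroup G) := by
    have := (R.subgroupOf (P1 : Subgroup G)).card_mul_index
    rwa [card_subgroupOf', inf_eq_left.2 hP1] at this
  have h4 : Nat.card ↥Qg * Qg.relIndex (P1 : Subgroup G) = Nat.card ↥(P1 : Subgroup G) := by
    have := (Qg.subgroupOf (P1 : Subgroup G)).card_mul_index
    rwa [card_subgroupOf', inf_eq_left.2 hQ'] at this
  have h5 : Nat.card ↥R * Nat.card ↥Qg ≤ Nat.card ↥(P1 : Subgroup G) * Nat.card ↥(R ⊓ Qg) := by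
    have hp : 0 < (R ⊓ Qg).relIndex (P1 : Subgroup G) := Nat.pos_of_ne_zero (Subgroup.index_ne_zero_of_finite)
    by_contra hlt
    push Not at hlt
    have h6 : Nat.card ↥(P1 : Subgroup G) * Nat.card ↥(R ⊓ Qg) * (R.relIndex (P1 : Subgroup G) * Qg.relIndex (P1 : Subgroup G)) <
        Nat.card ↥R * Nat.card ↥Qg * (R.relIndex (P1 : Subgroup G) * Qg.relIndex (P1 : Subgroup G)) := by
      apply Nat.mul_lt_mul_of_pos_right hlt
      exact lt_of_lt_of_le hp h1
    have h7 : Nat.card ↥R * Nat.card ↥Qg * (R.relIndex (P1 : Subgroup G) * Qg.relIndex (P1 : Subgroup G)) =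
        Nat.card ↥(P1 : Subgroup G) * Nat.card ↥(P1 : Subgroup G) := by
      calc _ = (Nat.card ↥R * R.relIndex (P1 : Subgroup G)) * (Nat.card ↥Qg * Qg.relIndex (P1 : Subgroup G)) := by ring
        _ = _ := by rw [h3, h4]
    have h8 : Nat.card ↥(P1 : Subgroup G) * Nat.card ↥(R ⊓ Qg) * (R ⊓ Qg).relIndex (P1 : Subgroup G) =
        Nat.card ↥(P1 : Subgroup G) * Nat.card ↥(P1 : Subgroup G) := by rw [mul_assoc, h2]
    have h9 : Nat.card ↥(P1 : Subgroup G) * Nat.card ↥(R ⊓ Qg) * (R ⊓ Qg).relIndex (P1 : Subgroup G) ≤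
        Nat.card ↥(P1 : Subgroup G) * Nat.card ↥(R ⊓ Qg) * (R.relIndex (P1 : Subgroup G) * Qg.relIndex (P1 : Subgroup G)) :=
      Nat.mul_le_mul_left _ h1
    omega
  -- powers of `r`
  obtain ⟨d, hd⟩ := (IsPGroup.iff_card).1 (hRg.to_le (inf_le_left : R ⊓ Qg ≤ R))
  rw [hRc, hQgc, hPc, hd, ← pow_add, ← pow_add] at h5
  have h6 := (Nat.pow_le_pow_iff_right hr.one_lt).1 h5
  have h7 : (Nat.card G).factorization r = (Nat.card ↥H).factorization r + H.index.factorization r := by
    rw [← H.card_mul_index, Nat.factorization_mul Nat.card_pos.ne' Subgroup.index_ne_zero_of_finite, Finsupp.add_apply]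
  have h8 : d ≤ (Nat.card ↥(E ⊓ H.map (MulAut.conj g).toMonoidHom)).factorization r := by
    have hle : R ⊓ Qg ≤ E ⊓ H.map (MulAut.conj g).toMonoidHom := by
      refine inf_le_inf ?_ ?_
      · rw [hR]
        rintro _ ⟨x, _, rfl⟩
        exact x.2
      · rw [hQgd]
        apply Subgroup.map_mono
        rw [hQ]
        rintro _ ⟨x, _, rfl⟩
        exact x.2
    have h9 := Subgroup.card_dvd_of_le hle
    rw [hd] at h9
    exact (hr.pow_dvd_iff_le_factorization Nat.card_pos.ne').1 h9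
  omega

/-- if all intersections of `E` with conjugates of `H` are trivial then `|E|` divides the index of `H` -/
theorem card_dvd_of_conj [Finite G] (E H : Subgroup G) (h : ∀ g : G, E ⊓ H.map (MulAut.conj g).toMonoidHom = ⊥) :
    Nat.card ↥E ∣ H.index := by
  rw [← Nat.factorization_prime_le_iff_dvd Nat.card_pos.ne' Subgroup.index_ne_zero_of_finite]
  intro r hr
  obtain ⟨g, hg⟩ := exists_conj hr E H
  rw [h g, Subgroup.card_bot, Nat.factorization_one] at hg
  simpa using hg

end Cfsg.Agent.H372.Tits
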