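import Cfsg.Agent.H372.Tits.Path
import Cfsg.Agent.H372.Tits.Grp

/-!
# S3414, task G3: orders of the path stabilizers (helper372)
-/

set_option autoImplicit false

namespace Cfsg.Agent.H372.Tits

open Cfsg.Agent.H873.Tits MulAction

universe u v

variable {G : Type u} [Group G] {V : Type v} [MulAction G V] (P : Pol G V)

/-! ### shifting to any place -/

theorem exists_shift_add {p : ℕ → V} (h : IsPath P.adj (P.n + 1) p) (k : ℕ) : ∃ p' : ℕ → V, IsPath P.adj (P.n + 1) p' ∧
    (∀ j, j + k ≤ P.n + 1 → p' j = p (j + k)) ∧ P.H p' = P.H p := by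
  induction k with
  | zero => exact ⟨p, h, fun j _ => rfl, rfl⟩
  | succ k ih =>
    obtain ⟨p1, h1, h2, h3⟩ := ih
    obtain ⟨p2, h4, h5, h6⟩ := exists_shift P h1
    refine ⟨p2, h4, fun j hj => ?_, h6.trans h3⟩
    rw [h5 j (by omega), h2 (j + 1) (by omega)]
    congr 1
    omega

theorem H_rev (p : ℕ → V) : P.H (fun i => p (P.n + 1 - i)) = P.H p := by
  ext g
  constructor
  · intro h
    refine (mem_PS P).2 fun i hi => ?_
    have := (mem_PS P).1 h (P.n + 1 - i) (by omega)
    simp only [show P.n + 1 - (P.n + 1 - i) = i by omega] at this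
    exact this
  · intro h
    exact (mem_PS P).2 fun i hi => (mem_PS P).1 h _ (by omega)

theorem exists_shift_back {p : ℕ → V} (h : IsPath P.adj (P.n + 1) p) : ∃ p' : ℕ → V, IsPath P.adj (P.n + 1) p' ∧
    (∀ j, j ≤ P.n → p' (j + 1) = p j) ∧ P.H p' = P.H p := by
  obtain ⟨r, h1, h2, h3⟩ := exists_shift P (isPath_rev h)
  refine ⟨_, isPath_rev h1, fun j hj => ?_, ?_⟩
  · simp only [show P.n + 1 - (j + 1) = P.n - j by omega]
    rw [h2 _ (by omega)]
    simp only [show P.n + 1 - (P.n - j + 1) = j by omega]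
  · rw [H_rev, h3, H_rev]

/-- the vertices at the places `i, i + 1, i + 2` can be moved to the places `1, 2, 3` -/
theorem exists_shift3 {p : ℕ → V} {i : ℕ} (h : IsPath P.adj (P.n + 1) p) (hi : i + 2 ≤ P.n + 1) :
    ∃ p' : ℕ → V, IsPath P.adj (P.n + 1) p' ∧ p' 1 = p i ∧ p' 2 = p (i + 1) ∧ p' 3 = p (i + 2) ∧ P.H p' = P.H p := by
  have hn := n_pos P
  obtain ⟨p1, h1, h2, h3⟩ := exists_shift_add P h i
  obtain ⟨p2, h4, h5, h6⟩ := exists_shift_back P h1
  refine ⟨p2, h4, ?_, ?_, ?_, h6.trans h3⟩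
  · rw [h5 0 (by omega), h2 0 (by omega), zero_add]
  · rw [h5 1 (by omega), h2 1 (by omega), add_comm 1 i]
  · rw [h5 2 (by omega), h2 2 (by omega), add_comm 2 i]

/-! ### extending paths -/

theorem card_nb' (v : V) : {w : V | P.adj v w}.ncard = P.q (P.tp v) + 1 := P.card_nb v

theorem exists_nb_ne (v a : V) : ∃ w, P.adj v w ∧ w ≠ a := by
  by_contra h
  push Not at h
  have h1 : {w : V | P.adj v w} ⊆ {a} := fun w hw => h w hw
  have h2 := Set.ncard_le_ncard h1 (Set.finite_singleton a)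
  rw [card_nb', Set.ncard_singleton] at h2
  have := P.two_le (P.tp v)
  omega

theorem exists_ext {k : ℕ} {p : ℕ → V} (h : IsPath P.adj k p) (l : ℕ) : k ≤ l →
    ∃ p' : ℕ → V, IsPath P.adj l p' ∧ ∀ i, i ≤ k → p' i = p i := by
  induction l with
  | zero =>
    intro hk
    obtain rfl : k = 0 := by omega
    exact ⟨p, h, fun _ _ => rfl⟩
  | succ l ih =>
    intro hk
    rcases Nat.lt_or_ge l k with h1 | h1
    · obtain rfl : k = l + 1 := by omega
      exact ⟨p, h, fun _ _ => rfl⟩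
    · obtain ⟨p1, h2, h3⟩ := ih h1
      rcases Nat.eq_zero_or_pos l with rfl | hl
      · obtain ⟨w, hw, -⟩ := exists_nb_ne P (p1 0) (p1 0)
        refine ⟨app p1 0 w, ⟨fun i hi => ?_, fun i hi => by omega⟩, fun i hi => ?_⟩
        · obtain rfl : i = 0 := by omega
          rw [app_le le_rfl, app_succ]
          exact hw
        · rw [app_le (by omega), h3 i hi]
      · obtain ⟨m, rfl⟩ : ∃ m, l = m + 1 := ⟨l - 1, by omega⟩
        obtain ⟨w, hw, hw'⟩ := exists_nb_ne P (p1 (m + 1)) (p1 m)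
        refine ⟨_, isPath_app h2 hw hw', fun i hi => ?_⟩
        rw [app_le (by omega), h3 i hi]

/-! ### orbits -/

/-- one step -/
theorem card_step {k : ℕ} {p : ℕ → V} (hk : k + 2 ≤ P.n + 1) (h : IsPath P.adj (k + 2) p) :
    Nat.card ↥(P.PS (k + 1) p) = P.q (P.tp (p (k + 1))) * Nat.card ↥(P.PS (k + 2) p) := by
  rw [orb_card (P.PS (k + 1) p) (p (k + 2)), ← PS_succ]
  congr 1
  have h1 : {b : V | ∃ g ∈ P.PS (k + 1) p, g • p (k + 2) = b} = {w : V | P.adj (p (k + 1)) w} \ {p k} := by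
    ext b
    constructor
    · rintro ⟨g, hg, rfl⟩
      have h2 := (mem_PS P).1 hg (k + 1) le_rfl
      have h3 := (mem_PS P).1 hg k (by omega)
      refine ⟨?_, ?_⟩
      · have := P.smul_adj g (h.1 (k + 1) (by omega))
        rwa [h2] at this
      · intro h4
        rw [Set.mem_singleton_iff] at h4
        apply h.2 k (by omega)
        apply smul_left_cancel g
        rw [h4, h3]
    · rintro ⟨h2, h3⟩
      have h4 : IsPath P.adj (k + 2) (app p (k + 1) b) := isPath_app (IsPath.mono h (by omega)) h2 h3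
      obtain ⟨g, hg⟩ := P.trans (by omega) h h4 (by rw [app_le (by omega)])
      refine ⟨g, (mem_PS P).2 fun i hi => ?_, ?_⟩
      · rw [hg i (by omega), app_le hi]
      · rw [hg (k + 2) le_rfl, app_succ]
  rw [h1, Set.ncard_sdiff_singleton_of_mem (show p k ∈ {w : V | P.adj (p (k + 1)) w} from P.symm (h.1 k (by omega))), card_nb']
  rfl

/-- the first step -/
theorem card_step0 {p : ℕ → V} (h : IsPath P.adj 1 p) :
    Nat.card ↥(P.S (p 0)) = (P.q (P.tp (p 0)) + 1) * Nat.card ↥(P.PS 1 p) := by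
  have hn := n_pos P
  rw [← PS_zero P p, orb_card (P.PS 0 p) (p 1), ← PS_succ]
  congr 1
  have h1 : {b : V | ∃ g ∈ P.PS 0 p, g • p 1 = b} = {w : V | P.adj (p 0) w} := by
    ext b
    constructor
    · rintro ⟨g, hg, rfl⟩
      have h2 := (mem_PS P).1 hg 0 le_rfl
      have := P.smul_adj g (h.1 0 (by omega))
      rwa [h2] at this
    · intro h2
      have h4 : IsPath P.adj 1 (app p 0 b) := ⟨fun i hi => by
        obtain rfl : i = 0 := by omega
        rw [app_le le_rfl, app_succ]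
        exact h2, fun i hi => by omega⟩
      obtain ⟨g, hg⟩ := P.trans (by omega) h h4 (by rw [app_le (by omega)])
      refine ⟨g, (mem_PS P).2 fun i hi => ?_, ?_⟩
      · rw [hg i (by omega), app_le hi]
      · rw [hg 1 le_rfl, app_succ]
  rw [h1, card_nb']

theorem q_path {k : ℕ} {p : ℕ → V} (h : IsPath P.adj k p) {i : ℕ} (hi : i + 1 ≤ k) : P.q (P.tp (p (i + 1))) = P.q (!P.tp (p i)) := by
  rw [P.tp_adj (h.1 i (by omega))]

/-- several steps -/
theorem card_steps {k : ℕ} {p : ℕ → V} (h : IsPath P.adj (P.n + 1) p) (j : ℕ) : k + 1 + 2 * j ≤ P.n + 1 →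
    Nat.card ↥(P.PS (k + 1) p) = (P.q (P.tp (p (k + 1))) * P.q (!P.tp (p (k + 1)))) ^ j * Nat.card ↥(P.PS (k + 1 + 2 * j) p) := by
  induction j with
  | zero =>
    intro _
    simp
  | succ j ih =>
    intro hj
    have h1 := card_step P (k := k + 2 * j) (p := p) (by omega) (IsPath.mono h (by omega))
    have h2 := card_step P (k := k + 2 * j + 1) (p := p) (by omega) (IsPath.mono h (by omega))
    have e1 : k + 2 * j + 1 = k + 1 + 2 * j := by ring
    have h3 : P.tp (p (k + 2 * j + 1)) = P.tp (p (k + 1)) := by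
      have a1 := tp_path P h (k + 2 * j + 1) (by omega)
      have a2 := tp_path P h (k + 1) (by omega)
      rw [a1, a2]
      have : Even (k + 2 * j + 1) ↔ Even (k + 1) := by
        constructor <;> rintro ⟨x, hx⟩
        · exact ⟨x - j, by omega⟩
        · exact ⟨x + j, by omega⟩
      by_cases he : Even (k + 1)
      · rw [if_pos he, if_pos (this.2 he)]
      · rw [if_neg he, if_neg (fun h => he (this.1 h))]
    have h4 : P.tp (p (k + 2 * j + 1 + 1)) = !P.tp (p (k + 1)) := by
      rw [P.tp_adj (h.1 (k + 2 * j + 1) (by omega)), h3]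
    rw [ih (by omega), ← e1, h1, h3]
    rw [show k + 2 * j + 2 = k + 2 * j + 1 + 1 by ring, h2, h4, pow_succ]
    rw [show k + 2 * j + 1 + 2 = k + 1 + 2 * (j + 1) by ring]
    ring

end Cfsg.Agent.H372.Tits
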