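import Cfsg.Agent.H372.Tits.Cnt

/-!
# S3414, task G3: opposite vertices, the counts 1 and 2 (helper372)
-/

set_option autoImplicit false

namespace Cfsg.Agent.H372.Tits

open Cfsg.Agent.H873.Tits MulAction

universe u v

variable {G : Type u} [Group G] {V : Type v} [MulAction G V] (P : Pol G V)

theorem tp_even {k : ℕ} {p : ℕ → V} (h : IsPath P.adj k p) {i j : ℕ} (hi : i + 2 * j ≤ k) : P.tp (p (i + 2 * j)) = P.tp (p i) := by
  rw [tp_path P h _ hi, tp_path P h i (by omega)]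
  have : Even (i + 2 * j) ↔ Even i := by
    constructor <;> rintro ⟨x, hx⟩
    · exact ⟨x - j, by omega⟩
    · exact ⟨x + j, by omega⟩
  by_cases he : Even i
  · rw [if_pos he, if_pos (this.2 he)]
  · rw [if_neg he, if_neg (fun h => he (this.1 h))]

/-- the order of `PS 1` -/
theorem card_PS1 {p : ℕ → V} (h : IsPath P.adj (P.n + 1) p) : Nat.card ↥(P.PS 1 p) =
    P.q (P.tp (p 0)) ^ (P.n / 2 - 1) * P.q (!P.tp (p 0)) ^ (P.n / 2) * Nat.card ↥(P.PS P.n p) := by
  have hn := n_pos P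
  obtain ⟨m, hm⟩ : ∃ m, P.n = 2 * m + 4 := ⟨P.n / 2 - 2, by have := n_even P; omega⟩
  have e1 : P.n / 2 = m + 2 := by omega
  have h1 := card_steps P (k := 0) h (m + 1) (by omega)
  have h2 := card_step P (k := 2 * m + 2) (p := p) (by omega) (IsPath.mono h (by omega))
  have h3 : P.tp (p (0 + 1)) = !P.tp (p 0) := P.tp_adj (h.1 0 (by omega))
  have h4 : P.tp (p (2 * m + 2 + 1)) = !P.tp (p 0) := by
    rw [← h3, ← tp_even P h (i := 0 + 1) (j := m + 1) (by omega)]
    congr 2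
    ring
  rw [zero_add] at h1
  rw [h1, show 1 + 2 * (m + 1) = 2 * m + 2 + 1 by ring, h2, h4, e1, show P.n = 2 * m + 2 + 2 by omega]
  rw [zero_add] at h3
  rw [h3, Bool.not_not, show m + 2 - 1 = m + 1 by omega]
  ring

theorem card_PSn {p : ℕ → V} (h : IsPath P.adj (P.n + 1) p) : Nat.card ↥(P.PS P.n p) =
    P.q (P.tp (p 0)) * Nat.card ↥(P.H p) := by
  have hn := n_pos P
  obtain ⟨m, hm⟩ : ∃ m, P.n = 2 * m + 4 := ⟨P.n / 2 - 2, by have := n_even P; omega⟩
  have h2 := card_step P (k := 2 * m + 3) (p := p) (by omega) (IsPath.mono h (by omega))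
  have h4 : P.tp (p (2 * m + 3 + 1)) = P.tp (p 0) := by
    rw [← tp_even P h (i := 0) (j := m + 2) (by omega)]
    congr 2
    ring
  rw [Pol.H, hm, show 2 * m + 4 = 2 * m + 3 + 1 by ring, h2, h4]

theorem card_PS2 {p : ℕ → V} (h : IsPath P.adj (P.n + 1) p) : Nat.card ↥(P.PS 2 p) =
    P.q (P.tp (p 1)) ^ (P.n / 2 - 1) * P.q (!P.tp (p 1)) ^ (P.n / 2) * Nat.card ↥(P.H p) := by
  have hn := n_pos P
  have h0 := card_PSn P h
  obtain ⟨m, hm⟩ : ∃ m, P.n = 2 * m + 4 := ⟨P.n / 2 - 2, by have := n_even P; omega⟩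
  have e1 : P.n / 2 = m + 2 := by omega
  have h1 := card_steps P (k := 1) h (m + 1) (by omega)
  have h3 : P.tp (p 1) = !P.tp (p 0) := P.tp_adj (h.1 0 (by omega))
  have h4 : P.tp (p (1 + 1)) = P.tp (p 0) := tp_even P h (i := 0) (j := 1) (by omega)
  rw [show 1 + 1 + 2 * (m + 1) = P.n by omega, h0, h4] at h1
  rw [show 1 + 1 = 2 by rfl] at h1
  rw [h1, h3, Bool.not_not, e1, show m + 2 - 1 = m + 1 by omega]
  ring

theorem card_PS4 {p : ℕ → V} (h : IsPath P.adj (P.n + 1) p) : Nat.card ↥(P.PS 4 p) =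
    P.q (P.tp (p 2)) ^ (P.n / 2 - 1) * P.q (!P.tp (p 2)) ^ (P.n / 2 - 2) * Nat.card ↥(P.H p) := by
  have hn := n_pos P
  have h0 := card_PSn P h
  obtain ⟨m, hm⟩ : ∃ m, P.n = 2 * m + 4 := ⟨P.n / 2 - 2, by have := n_even P; omega⟩
  have e1 : P.n / 2 = m + 2 := by omega
  have h1 := card_steps P (k := 3) h m (by omega)
  have h4 : P.tp (p (3 + 1)) = P.tp (p 0) := tp_even P h (i := 0) (j := 2) (by omega)
  have h5 : P.tp (p 2) = P.tp (p 0) := tp_even P h (i := 0) (j := 1) (by omega)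
  rw [show 3 + 1 + 2 * m = P.n by omega, h0, h4] at h1
  rw [show 3 + 1 = 4 by rfl] at h1
  rw [h1, h5, e1, show m + 2 - 1 = m + 1 by omega, show m + 2 - 2 = m by omega]
  ring

/-! ### opposite vertices -/

theorem exists_opp_path {v v' w : V} (h : P.Opp v v') (hw : P.adj v w) :
    ∃ p : ℕ → V, IsPath P.adj P.n p ∧ p 0 = v ∧ p 1 = w ∧ p P.n = v' := by
  have hn := n_pos P
  have he := n_even P
  obtain ⟨d, hd, d0, d1⟩ := h
  obtain ⟨k, hk, c, hc, c0, c1⟩ := P.exists_path w v'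
  have ht : P.tp v' = P.tp v := by
    have := tp_even P hd (i := 0) (j := P.n / 2) (by omega)
    rwa [zero_add, ← he, d1, d0] at this
  have hk' : k ≠ P.n := by
    rintro rfl
    have := tp_even P hc (i := 0) (j := P.n / 2) (by omega)
    rw [zero_add, ← he, c1, c0, P.tp_adj hw, ht] at this
    cases hb : P.tp v <;> rw [hb] at this <;> exact absurd this (by decide)
  rcases Nat.eq_zero_or_pos k with rfl | hk0
  · -- `w = v'` : impossible
    exfalso
    have h1 : IsPath P.adj 1 (app (fun _ => v) 0 w) := ⟨fun i hi => by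
        obtain rfl : i = 0 := by omega
        rw [app_le le_rfl, app_succ]
        exact hw, fun i hi => by omega⟩
    have h2 := (P.path_unique h1 hd (by rw [app_le le_rfl, d0]) (by rw [app_succ, d1, ← c1, c0]) (by omega)).1
    omega
  obtain ⟨l, rfl⟩ : ∃ l, k = l + 1 := ⟨k - 1, by omega⟩
  by_cases h1 : c 1 = v
  · exfalso
    have h2 : IsPath P.adj l (fun i => c (i + 1)) := IsPath.shift hc
    have h3 := (P.path_unique h2 hd (by simpa [d0] using h1) (by simpa [d1] using c1) (by omega)).1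
    omega
  · have h2 := isPath_cons (a := v) hc (by rwa [c0]) (Ne.symm h1)
    have h3 : l + 2 = P.n := by
      by_contra hne
      have := (P.path_unique h2 hd (by simp [d0]) (by simpa [d1] using c1) (by omega)).1
      omega
    rw [h3] at h2
    refine ⟨_, h2, by simp, by simpa using c0, ?_⟩
    simp only [if_neg (show P.n ≠ 0 by omega)]
    rw [← h3]
    simpa using c1

theorem fix_opp {p : ℕ → V} (h : IsPath P.adj P.n p) {g : G} (h0 : g • p 0 = p 0) (h1 : g • p 1 = p 1)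
    (h2 : g • p P.n = p P.n) : g ∈ P.PS P.n p := by
  have hn := n_pos P
  refine (mem_PS P).2 fun i hi => ?_
  rcases Nat.eq_zero_or_pos i with rfl | hi0
  · exact h0
  obtain ⟨m, hm⟩ : ∃ m, P.n = m + 1 := ⟨P.n - 1, by omega⟩
  have h3 : IsPath P.adj m (fun i => p (i + 1)) := by
    rw [hm] at h
    exact IsPath.shift h
  have h4 := fix_path P h3 (by omega) (g := g) (by simpa using h1) (by simpa [← hm] using h2) (i - 1) (by omega)
  simpa [show i - 1 + 1 = i by omega] using h4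

theorem opp_symm {v v' : V} (h : P.Opp v v') : P.Opp v' v := by
  obtain ⟨d, hd, d0, d1⟩ := h
  exact ⟨_, isPath_rev hd, by simpa using d1, by simpa using d0⟩

theorem opp_tp {v v' : V} (h : P.Opp v v') : P.tp v' = P.tp v := by
  obtain ⟨d, hd, d0, d1⟩ := h
  have he := n_even P
  have := tp_even P hd (i := 0) (j := P.n / 2) (by omega)
  rwa [zero_add, ← he, d1, d0] at this

theorem K_opp {v v' : V} (h : P.Opp v v') : P.K v ⊓ P.S v' ≤ P.K v' := by
  rintro g ⟨hg, hg'⟩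
  have hn := n_pos P
  refine ⟨hg', fun w hw => ?_⟩
  obtain ⟨p, hp, p0, p1, p2⟩ := exists_opp_path P (opp_symm P h) hw
  have h1 : g • p 0 = p 0 := by rw [p0]; exact hg'
  have h2 : g • p (P.n - 1) = p (P.n - 1) := by
    apply hg.2
    rw [← p2]
    have := hp.1 (P.n - 1) (by omega)
    rw [show P.n - 1 + 1 = P.n by omega] at this
    exact P.symm this
  rw [← p1]
  exact fix_path P (IsPath.mono hp (by omega : P.n - 1 ≤ P.n)) (by omega) h1 h2 1 (by omega)

theorem K_opp_H {v v' : V} {p : ℕ → V} (h : IsPath P.adj P.n p) (h0 : p 0 = v) (h1 : p P.n = v') :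
    P.K v ⊓ P.S v' ≤ P.PS P.n p := by
  have hn := n_pos P
  rintro g ⟨hg, hg'⟩
  refine fix_opp P h (by rw [h0]; exact hg.1) (hg.2 _ ?_) (by rw [h1]; exact hg')
  rw [← h0]
  exact h.1 0 (by omega)

/-- `K v ⊓ S v'` lies in `H p`, for `v = p 0` and `v' = p n` -/
theorem K_opp_le_H {p : ℕ → V} (h : IsPath P.adj (P.n + 1) p) : P.K (p 0) ⊓ P.S (p P.n) = P.K (p 0) ⊓ P.H p := by
  have hn := n_pos P
  apply le_antisymm
  · intro g hg
    refine ⟨hg.1, (mem_PS P).2 fun i hi => ?_⟩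
    rcases Nat.lt_or_ge i (P.n + 1) with h1 | h1
    · exact (mem_PS P).1 (K_opp_H P (IsPath.mono h (by omega : P.n ≤ P.n + 1)) rfl rfl hg) i (by omega)
    · obtain rfl : i = P.n + 1 := by omega
      exact (K_opp P ⟨p, IsPath.mono h (by omega), rfl, rfl⟩ hg).2 _ (h.1 P.n (by omega))
  · exact inf_le_inf le_rfl (H_le_S P (by omega))

theorem smul_K (g : G) (v : V) : (P.K v).map (MulAut.conj g).toMonoidHom = P.K (g • v) := by
  ext a
  constructor
  · rintro ⟨b, hb, rfl⟩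
    refine ⟨?_, fun w hw => ?_⟩
    · change (g * b * g⁻¹) • g • v = g • v
      rw [mul_smul, inv_smul_smul, mul_smul, hb.1]
    · change (g * b * g⁻¹) • w = w
      have h1 : P.adj v (g⁻¹ • w) := by
        rw [← P.adj_smul_iff g, smul_inv_smul]
        exact hw
      rw [mul_smul, mul_smul, hb.2 _ h1, smul_inv_smul]
  · rintro ⟨h1, h2⟩
    refine ⟨g⁻¹ * a * g, ⟨?_, fun w hw => ?_⟩, ?_⟩
    · rw [mul_smul, mul_smul, h1, inv_smul_smul]
    · rw [mul_smul, mul_smul, h2 _ (P.smul_adj g hw), inv_smul_smul]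
    · change g * (g⁻¹ * a * g) * g⁻¹ = a
      group

theorem smul_S (g : G) (v : V) : (P.S v).map (MulAut.conj g).toMonoidHom = P.S (g • v) := by
  ext a
  constructor
  · rintro ⟨b, hb, rfl⟩
    change (g * b * g⁻¹) • g • v = g • v
    rw [mul_smul, inv_smul_smul, mul_smul, show b • v = v from hb]
  · intro h1
    refine ⟨g⁻¹ * a * g, ?_, ?_⟩
    · change (g⁻¹ * a * g) • v = v
      rw [mul_smul, mul_smul, show a • g • v = g • v from h1, inv_smul_smul]
    · change g * (g⁻¹ * a * g) * g⁻¹ = a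
      group

theorem card_k {v v' : V} {p : ℕ → V} {i : ℕ} (ho : P.Opp v v') (h : IsPath P.adj (P.n + 1) p) (hi : i ≤ P.n + 1) (hv : p i = v) :
    Nat.card ↥(P.K v ⊓ P.S v') = Nat.card ↥(P.K v ⊓ P.H p) := by
  have hn := n_pos P
  obtain ⟨p1, h1, h2, h3⟩ := exists_shift_add P h i
  have h4 := h2 0 (by omega)
  rw [zero_add, hv] at h4
  rw [← h3, ← h4, ← K_opp_le_H P h1]
  obtain ⟨d, hd, d0, d1⟩ := ho
  obtain ⟨g, hg⟩ := P.trans (by omega : P.n ≤ P.n + 1) hd (IsPath.mono h1 (by omega)) (by rw [d0, h4])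
  have e0 := hg 0 (by omega)
  have e1 := hg P.n le_rfl
  rw [d0] at e0
  rw [d1] at e1
  have h5 : (P.K v ⊓ P.S v').map (MulAut.conj g).toMonoidHom = P.K (p1 0) ⊓ P.S (p1 P.n) := by
    rw [Subgroup.map_inf_eq _ _ _ (MulAut.conj g).injective, smul_K, smul_S, e0, e1]
  rw [← h5, h4]
  exact Nat.card_congr (Subgroup.equivMapOfInjective _ _ (MulAut.conj g).injective).toEquiv

/-! ### counting -/

theorem card_img (v : V) (X : Subgroup G) :
    Nat.card ↥(P.img v X) * Nat.card ↥(P.K v ⊓ X) = Nat.card ↥(X ⊓ P.S v) := by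
  have h1 : (P.toPerm v).ker = (P.K v).subgroupOf (P.S v) := by
    ext g
    rw [MonoidHom.mem_ker, Subgroup.mem_subgroupOf]
    constructor
    · intro h
      refine ⟨g.2, fun w hw => ?_⟩
      have := congrArg (fun f : Equiv.Perm {w : V // P.adj v w} => ((f ⟨w, hw⟩ : {w : V // P.adj v w}) : V)) h
      simpa using this
    · intro h
      ext w
      exact h.2 w.1 w.2
  have h2 : Nat.card ↥(P.img v X) = (P.toPerm v).ker.relIndex (X.subgroupOf (P.S v)) := (Subgroup.relIndex_ker _ _).symm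
  have h3 := ((P.toPerm v).ker.subgroupOf (X.subgroupOf (P.S v))).card_mul_index
  have h4 : (P.K v).subgroupOf (P.S v) ⊓ X.subgroupOf (P.S v) = (P.K v ⊓ X).subgroupOf (P.S v) := rfl
  have h5 : P.K v ⊓ X ⊓ P.S v = P.K v ⊓ X := inf_eq_left.2 (inf_le_left.trans (P.K_le_S v))
  rw [card_subgroupOf', h1, h4, card_subgroupOf', h5, card_subgroupOf'] at h3
  rw [h2, ← h3, h1, mul_comm]
  rfl

/-- `S v ⊓ S v'` is transitive on the neighbours of `v` -/
theorem card_S_inf {p : ℕ → V} (h : IsPath P.adj P.n p) :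
    Nat.card ↥(P.S (p 0) ⊓ P.S (p P.n)) = (P.q (P.tp (p 0)) + 1) * Nat.card ↥(P.PS P.n p) := by
  have hn := n_pos P
  rw [orb_card (P.S (p 0) ⊓ P.S (p P.n)) (p 1)]
  have h1 : {b : V | ∃ g ∈ P.S (p 0) ⊓ P.S (p P.n), g • p 1 = b} = {w : V | P.adj (p 0) w} := by
    ext b
    constructor
    · rintro ⟨g, hg, rfl⟩
      have := P.smul_adj g (h.1 0 (by omega))
      rwa [show g • p 0 = p 0 from hg.1] at this
    · intro hb
      obtain ⟨p', h2, h3, h4, h5⟩ := exists_opp_path P ⟨p, h, rfl, rfl⟩ hb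
      obtain ⟨g, hg⟩ := P.trans (by omega : P.n ≤ P.n + 1) h h2 (by rw [h3])
      refine ⟨g, ⟨?_, ?_⟩, ?_⟩
      · exact (hg 0 (by omega)).trans h3
      · exact (hg P.n le_rfl).trans h5
      · exact (hg 1 (by omega)).trans h4
  have h2 : P.S (p 0) ⊓ P.S (p P.n) ⊓ stabilizer G (p 1) = P.PS P.n p := by
    apply le_antisymm
    · rintro g ⟨⟨h3, h4⟩, h5⟩
      exact fix_opp P h h3 h5 h4
    · intro g hg
      exact ⟨⟨(mem_PS P).1 hg 0 (by omega), (mem_PS P).1 hg _ le_rfl⟩, (mem_PS P).1 hg 1 (by omega)⟩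
  rw [h1, h2, card_nb']

theorem card_S {v v' : V} (ho : P.Opp v v') : Nat.card ↥(P.S v) =
    P.q (P.tp v) ^ (P.n / 2 - 1) * P.q (!P.tp v) ^ (P.n / 2) * Nat.card ↥(P.S v ⊓ P.S v') := by
  have hn := n_pos P
  obtain ⟨d, hd, rfl, rfl⟩ := ho
  obtain ⟨p, hp, hpd⟩ := exists_ext P hd (P.n + 1) (by omega)
  have h1 := card_S_inf P (IsPath.mono hp (by omega : P.n ≤ P.n + 1))
  rw [← hpd 0 (by omega), ← hpd P.n le_rfl, h1, card_step0 P (IsPath.mono hp (by omega)), card_PS1 P hp]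
  ring

theorem idx_mul {v v' : V} : P.idx v v' * (Nat.card ↥(P.L' v v') * Nat.card ↥(P.K v)) = Nat.card ↥(P.S v) := by
  have h1 := card_img P v (P.S v)
  rw [inf_eq_left.2 (P.K_le_S v), inf_idem] at h1
  have h2 : P.L' v v' ≤ P.L v := by
    apply Subgroup.map_mono
    intro g hg
    exact (Subgroup.mem_subgroupOf.1 hg).1
  have h3 : Nat.card ↥(P.L' v v') * P.idx v v' = Nat.card ↥(P.L v) := by
    have := ((P.L' v v').subgroupOf (P.L v)).card_mul_index
    rwa [card_subgroupOf', inf_eq_left.2 h2] at this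
  rw [← h1]
  change _ = Nat.card ↥(P.L v) * _
  rw [← h3]
  ring

variable [Finite G]

theorem count_opp {v v' : V} (ho : P.Opp v v') : P.idx v v' * Nat.card ↥(P.K v) =
    P.q (P.tp v) ^ (P.n / 2 - 1) * P.q (!P.tp v) ^ (P.n / 2) * Nat.card ↥(P.K v ⊓ P.S v') := by
  have h1 := idx_mul P (v := v) (v' := v')
  have h2 := card_img P v (P.S v ⊓ P.S v')
  have h3 : P.K v ⊓ (P.S v ⊓ P.S v') = P.K v ⊓ P.S v' := by
    rw [← inf_assoc, inf_eq_left.2 (P.K_le_S v)]
  have h4 : P.S v ⊓ P.S v' ⊓ P.S v = P.S v ⊓ P.S v' := inf_eq_left.2 inf_le_left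
  rw [h3, h4] at h2
  rw [card_S P ho, ← h2] at h1
  have h5 : 0 < Nat.card ↥(P.img v (P.S v ⊓ P.S v')) := by
    have := Nat.card_pos (α := ↥(P.S v ⊓ P.S v'))
    rw [← h2] at this
    exact Nat.pos_of_mul_pos_right this
  apply Nat.eq_of_mul_eq_mul_left h5
  change P.idx v v' * (Nat.card ↥(P.img v (P.S v ⊓ P.S v')) * Nat.card ↥(P.K v)) = _ at h1
  calc _ = P.idx v v' * (Nat.card ↥(P.img v (P.S v ⊓ P.S v')) * Nat.card ↥(P.K v)) := by ring
    _ = _ := by rw [h1]; ring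

theorem count_T2 {v v' : V} {p : ℕ → V} {i : ℕ} (ho : P.Opp v v') (h : IsPath P.adj (P.n + 1) p) (hi : i + 2 ≤ P.n + 1)
    (hv : p (i + 1) = v) : P.T2 v (p i) (p (i + 2)) * Nat.card ↥(P.K v ⊓ P.H p) = P.idx v v' * Nat.card ↥(P.H p) := by
  have hn := n_pos P
  obtain ⟨p1, h1, h2, h3⟩ := exists_shift_add P h i
  have e0 : p1 0 = p i := by rw [h2 0 (by omega), zero_add]
  have e1 : p1 1 = v := by rw [h2 1 (by omega), add_comm, hv]
  have e2 : p1 2 = p (i + 2) := by rw [h2 2 (by omega), add_comm]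
  have h4 := card_PS2 P h1
  rw [e1, h3] at h4
  have h5 := card_img P v (P.S (p i) ⊓ P.S (p (i + 2)))
  have h6 : P.K v ⊓ (P.S (p i) ⊓ P.S (p (i + 2))) = P.K v := by
    rw [inf_eq_left]
    intro g hg
    refine ⟨hg.2 _ ?_, hg.2 _ ?_⟩
    · rw [← hv]
      exact P.symm (h.1 i (by omega))
    · rw [← hv]
      exact h.1 (i + 1) (by omega)
  have h7 : P.S (p i) ⊓ P.S (p (i + 2)) ⊓ P.S v = P.PS 2 p1 := by
    ext g
    rw [mem_PS]
    constructor
    · rintro ⟨⟨a1, a2⟩, a3⟩ j hj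
      obtain rfl | rfl | rfl : j = 0 ∨ j = 1 ∨ j = 2 := by omega
      · rw [e0]; exact a1
      · rw [e1]; exact a3
      · rw [e2]; exact a2
    · intro hg
      have a0 := hg 0 (by omega)
      have a1 := hg 1 (by omega)
      have a2 := hg 2 (by omega)
      rw [e0] at a0
      rw [e1] at a1
      rw [e2] at a2
      exact ⟨⟨a0, a2⟩, a1⟩
  rw [h6, h7, h4] at h5
  have h8 := count_opp P ho
  rw [card_k P ho h (by omega) hv] at h8
  have h9 : 0 < Nat.card ↥(P.K v) := Nat.card_pos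
  apply Nat.eq_of_mul_eq_mul_left h9
  change P.T2 v (p i) (p (i + 2)) * Nat.card ↥(P.K v) = _ at h5
  calc _ = (P.T2 v (p i) (p (i + 2)) * Nat.card ↥(P.K v)) * Nat.card ↥(P.K v ⊓ P.H p) := by ring
    _ = (P.idx v v' * Nat.card ↥(P.K v)) * Nat.card ↥(P.H p) := by rw [h5, h8]; ring
    _ = _ := by ring

end Cfsg.Agent.H372.Tits
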