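import Cfsg.Agent.H372.Tits.Cnt2

/-!
# S3414, task G3: the counts 3, 4 and case (B) (helper372)
-/

set_option autoImplicit false

namespace Cfsg.Agent.H372.Tits

open Cfsg.Agent.H873.Tits MulAction

universe u v

variable {G : Type u} [Group G] {V : Type v} [MulAction G V] (P : Pol G V)

theorem conj_K {g : G} {v : V} (hg : g ∈ P.S v) {a : G} (ha : a ∈ P.K v) : g * a * g⁻¹ ∈ P.K v := by
  have h : g * a * g⁻¹ ∈ (P.K v).map (MulAut.conj g).toMonoidHom := ⟨a, ha, rfl⟩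
  rwa [smul_K, show g • v = v from hg] at h

/-- the path `x, y, w` -/
def path2 (x y w : V) : ℕ → V := fun i => if i = 0 then x else if i = 1 then y else w

theorem isPath2 {x y w : V} (h1 : P.adj x y) (h2 : P.adj y w) (h3 : w ≠ x) : IsPath P.adj 2 (path2 x y w) := by
  constructor
  · intro i hi
    obtain rfl | rfl : i = 0 ∨ i = 1 := by omega
    · exact h1
    · exact h2
  · intro i hi
    obtain rfl : i = 0 := by omega
    exact h3

variable [Finite G]

theorem relIndex_dvd {x y w : V} (hxy : P.adj x y) (hwy : P.adj w y) (hxw : x ≠ w) :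
    (P.K x ⊓ P.S w).relIndex (P.K x) ∣ P.q (P.tp y) := by
  have hn := n_pos P
  have hp := isPath2 P hxy (P.symm hwy) hxw.symm
  have h1 := card_step P (k := 0) (p := path2 x y w) (by omega) hp
  rw [zero_add, PS_succ P 1] at h1
  have hN : P.K x ≤ P.PS 1 (path2 x y w) := by
    intro g hg
    refine (mem_PS P).2 fun i hi => ?_
    obtain rfl | rfl : i = 0 ∨ i = 1 := by omega
    · exact hg.1
    · exact hg.2 _ hxy
  have hnn : ((P.K x).subgroupOf (P.PS 1 (path2 x y w))).Normal := by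
    refine ⟨fun a ha g => ?_⟩
    rw [Subgroup.mem_subgroupOf] at ha ⊢
    exact conj_K P ((mem_PS P).1 g.2 0 (by omega)) ha
  have h2 := relIndex_dvd_relIndex (Y := P.S w) hN hnn
  have h3 : (P.S w).relIndex (P.PS 1 (path2 x y w)) = P.q (P.tp y) := by
    have h4 := ((P.S w).subgroupOf (P.PS 1 (path2 x y w))).card_mul_index
    rw [card_subgroupOf', inf_comm] at h4
    have h5 : 0 < Nat.card ↥(P.PS 1 (path2 x y w) ⊓ P.S w) := Nat.card_pos
    apply Nat.eq_of_mul_eq_mul_left h5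
    change Nat.card ↥(P.PS 1 (path2 x y w) ⊓ P.S w) * (P.S w).relIndex (P.PS 1 (path2 x y w)) = _ at h4
    rw [h4, h1, mul_comm]
    rfl
  rw [h3] at h2
  rwa [Subgroup.inf_relIndex_left]

/-- the main estimate: `X` a subgroup, `H ≤ X`, `E ≤ X` with `E` normalized by `X` -/
theorem exists_conj_rel {r : ℕ} (hr : r.Prime) {E H X : Subgroup G} (hE : E ≤ X) (hH : H ≤ X) : ∃ g ∈ X,
    (Nat.card ↥E).factorization r ≤ (H.relIndex X).factorization r +
      (Nat.card ↥(E ⊓ H.map (MulAut.conj g).toMonoidHom)).factorization r := by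
  obtain ⟨g, hg⟩ := exists_conj hr (E.subgroupOf X) (H.subgroupOf X)
  refine ⟨g, g.2, ?_⟩
  rw [card_subgroupOf', inf_eq_left.2 hE] at hg
  refine hg.trans ?_
  change (H.relIndex X).factorization r + _ ≤ _
  have h1 : E.subgroupOf X ⊓ (H.subgroupOf X).map (MulAut.conj g).toMonoidHom =
      (E ⊓ H.map (MulAut.conj (g : G)).toMonoidHom).subgroupOf X := by
    ext a
    rw [Subgroup.mem_inf, Subgroup.mem_subgroupOf, Subgroup.mem_subgroupOf, Subgroup.mem_inf]
    refine and_congr_right fun _ => ?_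
    constructor
    · rintro ⟨b, hb, rfl⟩
      exact ⟨b, hb, rfl⟩
    · rintro ⟨b, hb, hb'⟩
      refine ⟨⟨b, hH hb⟩, hb, Subtype.ext hb'⟩
  rw [h1, card_subgroupOf', inf_eq_left.2 (inf_le_left.trans hE)]

theorem relIndex_H_PS4 {p : ℕ → V} (h : IsPath P.adj (P.n + 1) p) : (P.H p).relIndex (P.PS 4 p) =
    P.q (P.tp (p 2)) ^ (P.n / 2 - 1) * P.q (!P.tp (p 2)) ^ (P.n / 2 - 2) := by
  have hn := n_pos P
  have h1 := card_PS4 P h
  have h2 := ((P.H p).subgroupOf (P.PS 4 p)).card_mul_index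
  have h4 : P.H p ≤ P.PS 4 p := PS_anti P (by omega) p
  rw [card_subgroupOf', inf_eq_left.2 h4] at h2
  have h3 : 0 < Nat.card ↥(P.H p) := Nat.card_pos
  apply Nat.eq_of_mul_eq_mul_left h3
  change Nat.card ↥(P.H p) * (P.H p).relIndex (P.PS 4 p) = _ at h2
  rw [h2, h1, mul_comm]

theorem count_KK {r : ℕ} {p : ℕ → V} {i : ℕ} (hr : r.Prime) (h : IsPath P.adj (P.n + 1) p) (hi : i + 2 ≤ P.n + 1) :
    (Nat.card ↥(P.K (p i) ⊓ P.K (p (i + 2)))).factorization r ≤
      (P.q (P.tp (p (i + 1))) ^ (P.n / 2 - 1) * P.q (P.tp (p i)) ^ (P.n / 2 - 2)).factorization r +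
      (Nat.card ↥(P.K (p i) ⊓ P.K (p (i + 2)) ⊓ P.H p)).factorization r := by
  have hn := n_pos P
  obtain ⟨p1, h1, e1, e2, e3, h2⟩ := exists_shift3 P h hi
  rw [← e1, ← e2, ← e3, ← h2]
  have hE : P.K (p1 1) ⊓ P.K (p1 3) ≤ P.PS 4 p1 := by
    rintro g ⟨hg, hg'⟩
    refine (mem_PS P).2 fun j hj => ?_
    obtain rfl | rfl | rfl | rfl | rfl : j = 0 ∨ j = 1 ∨ j = 2 ∨ j = 3 ∨ j = 4 := by omega
    · exact hg.2 _ (P.symm (h1.1 0 (by omega)))
    · exact hg.1
    · exact hg.2 _ (h1.1 1 (by omega))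
    · exact hg'.1
    · exact hg'.2 _ (h1.1 3 (by omega))
  obtain ⟨g, hg, h3⟩ := exists_conj_rel hr hE (PS_anti P (show 4 ≤ P.n + 1 by omega) p1)
  change _ ≤ ((P.H p1).relIndex (P.PS 4 p1)).factorization r + _ at h3
  rw [relIndex_H_PS4 P h1] at h3
  have e4 : P.tp (p1 1) = !P.tp (p1 2) := by
    rw [P.tp_adj (h1.1 1 (by omega)), Bool.not_not]
  rw [← e4] at h3
  refine h3.trans ?_
  have h4 : P.K (p1 1) ⊓ P.K (p1 3) ⊓ (P.PS (P.n + 1) p1).map (MulAut.conj g).toMonoidHom =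
      (P.K (p1 1) ⊓ P.K (p1 3) ⊓ P.H p1).map (MulAut.conj g).toMonoidHom := by
    have h5 := (mem_PS P).1 hg 1 (by omega)
    have h6 := (mem_PS P).1 hg 3 (by omega)
    rw [Subgroup.map_inf_eq _ _ _ (MulAut.conj g).injective, Subgroup.map_inf_eq _ _ _ (MulAut.conj g).injective,
      smul_K, smul_K, h5, h6]
    rfl
  rw [h4, Nat.card_congr (Subgroup.equivMapOfInjective _ _ (MulAut.conj g).injective).toEquiv.symm]

theorem count_main {r : ℕ} {p : ℕ → V} {i : ℕ} {x' : V} (hr : r.Prime) (h : IsPath P.adj (P.n + 1) p) (hi : i + 2 ≤ P.n + 1)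
    (ho : P.Opp (p i) x') :
    (P.q (P.tp (p i))).factorization r + (Nat.card ↥(P.K (p i) ⊓ P.H p)).factorization r +
      (Nat.card ↥(P.K (p i) ⊓ P.K (p (i + 2)))).factorization r ≤
    (Nat.card ↥(P.K (p i) ⊓ P.S (p (i + 2)))).factorization r + (P.idx (p i) x').factorization r +
      (Nat.card ↥(P.K (p i) ⊓ P.K (p (i + 2)) ⊓ P.H p)).factorization r := by
  have hn := n_pos P
  have hev := n_even P
  have h1 := count_opp P ho
  rw [card_k P ho h (by omega) rfl] at h1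
  have h2 := count_KK P hr h hi
  have h3 := relIndex_dvd P (h.1 i (by omega)) (P.symm (h.1 (i + 1) (by omega))) (h.2 i (by omega)).symm
  have h4 : Nat.card ↥(P.K (p i) ⊓ P.S (p (i + 2))) * (P.K (p i) ⊓ P.S (p (i + 2))).relIndex (P.K (p i)) =
      Nat.card ↥(P.K (p i)) := by
    have := ((P.K (p i) ⊓ P.S (p (i + 2))).subgroupOf (P.K (p i))).card_mul_index
    rwa [card_subgroupOf', inf_eq_left.2 inf_le_left] at this
  have hs : P.q (P.tp (p i)) ≠ 0 := by have := P.two_le (P.tp (p i)); omega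
  have ht : P.q (P.tp (p (i + 1))) ≠ 0 := by have := P.two_le (P.tp (p (i + 1))); omega
  have e1 : (!P.tp (p i)) = P.tp (p (i + 1)) := (P.tp_adj (h.1 i (by omega))).symm
  have hidx : P.idx (p i) x' ≠ 0 := by
    intro h0
    rw [h0, zero_mul] at h1
    have : P.q (P.tp (p i)) ^ (P.n / 2 - 1) * P.q (!P.tp (p i)) ^ (P.n / 2) * Nat.card ↥(P.K (p i) ⊓ P.H p) ≠ 0 := by
      rw [e1]
      exact mul_ne_zero (mul_ne_zero (pow_ne_zero _ hs) (pow_ne_zero _ ht)) Nat.card_pos.ne'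
    exact this h1.symm
  have hrel : (P.K (p i) ⊓ P.S (p (i + 2))).relIndex (P.K (p i)) ≠ 0 := Subgroup.index_ne_zero_of_finite
  -- factorizations
  have f1 := congrArg (fun x => Nat.factorization x r) h1
  simp only [e1] at f1
  rw [Nat.factorization_mul hidx Nat.card_pos.ne',
    Nat.factorization_mul (mul_ne_zero (pow_ne_zero _ hs) (pow_ne_zero _ ht)) Nat.card_pos.ne',
    Nat.factorization_mul (pow_ne_zero _ hs) (pow_ne_zero _ ht), Nat.factorization_pow, Nat.factorization_pow] at f1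
  simp only [Finsupp.add_apply, Finsupp.smul_apply, smul_eq_mul] at f1
  have f2 := h2
  rw [Nat.factorization_mul (pow_ne_zero _ ht) (pow_ne_zero _ hs), Nat.factorization_pow, Nat.factorization_pow] at f2
  simp only [Finsupp.add_apply, Finsupp.smul_apply, smul_eq_mul] at f2
  have f3 : ((P.K (p i) ⊓ P.S (p (i + 2))).relIndex (P.K (p i))).factorization r ≤ (P.q (P.tp (p (i + 1)))).factorization r :=
    (Nat.factorization_le_iff_dvd hrel ht).2 h3 r
  have f4 := congrArg (fun x => Nat.factorization x r) h4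
  rw [Nat.factorization_mul Nat.card_pos.ne' hrel] at f4
  simp only [Finsupp.add_apply] at f4
  obtain ⟨m, hm⟩ : ∃ m, P.n / 2 = m + 2 := ⟨P.n / 2 - 2, by omega⟩
  rw [hm] at f1 f2
  rw [show m + 2 - 1 = m + 1 by omega] at f1 f2
  rw [show m + 2 - 2 = m by omega] at f2
  generalize (P.q (P.tp (p i))).factorization r = s at *
  generalize (P.q (P.tp (p (i + 1)))).factorization r = t at *
  have a1 : (m + 1) * s = m * s + s := by ring
  have a2 : (m + 2) * t = (m + 1) * t + t := by ring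
  rw [a1, a2] at f1
  omega

/-- the rigidity of `P` -/
def Rigid : Prop := ∀ {p : ℕ → V} {i : ℕ} {g : G}, IsPath P.adj (P.n + 1) p → i ≤ P.n → g ∈ P.K (p i) → g ∈ P.K (p (i + 1)) →
    g ∈ P.H p → g = 1

variable {P}

theorem caseB_card (hR : Rigid P) {b : Bool} {x y : V} (hB : CaseB P b) (hy : P.tp y = b) (hxy : P.adj x y) :
    Nat.card ↥(P.K x ⊓ P.K y) ∣ P.q b ^ (P.n / 2 - 1) * P.q (!b) ^ (P.n / 2 - 2) := by
  have hn := n_pos P
  -- a path with `p 2 = y`, `p 3 = x`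
  obtain ⟨z, hz, hzx⟩ := exists_nb_ne P y x
  obtain ⟨c, hc, hc'⟩ := exists_ext P (isPath2 P hxy hz hzx) 3 (by omega)
  obtain ⟨p, hp, hp'⟩ := exists_ext P (isPath_rev hc) (P.n + 1) (by omega)
  have e2 : p 2 = y := by
    rw [hp' 2 (by omega)]
    exact hc' 1 (by omega)
  have e3 : p 3 = x := by
    rw [hp' 3 (by omega)]
    exact hc' 0 (by omega)
  have hE : P.K x ⊓ P.K y ≤ P.PS 4 p := by
    rintro g hg
    have hz1 := hB.ball hy hxy (z := p 1) (by rw [← e2]; exact hp.1 1 (by omega)) hg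
    refine (mem_PS P).2 fun j hj => ?_
    obtain rfl | rfl | rfl | rfl | rfl : j = 0 ∨ j = 1 ∨ j = 2 ∨ j = 3 ∨ j = 4 := by omega
    · exact hz1.2 _ (P.symm (hp.1 0 (by omega)))
    · exact hz1.1
    · rw [e2]; exact hg.2.1
    · rw [e3]; exact hg.1.1
    · apply hg.1.2
      rw [← e3]
      exact hp.1 3 (by omega)
  have h1 := relIndex_H_PS4 P hp
  rw [e2, hy] at h1
  rw [← h1]
  have h2 := card_dvd_of_conj ((P.K x ⊓ P.K y).subgroupOf (P.PS 4 p)) ((P.H p).subgroupOf (P.PS 4 p)) ?_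
  · rwa [card_subgroupOf', inf_eq_left.2 hE] at h2
  · intro g
    rw [eq_bot_iff]
    rintro a ⟨ha, ⟨b', hb', hb⟩⟩
    rw [Subgroup.mem_bot]
    apply Subtype.ext
    have hb2 : (g : G) * b' * (g : G)⁻¹ = a := congrArg Subtype.val hb
    rw [OneMemClass.coe_one]
    have hg2 := (mem_PS P).1 g.2 2 (by omega)
    have hg3 := (mem_PS P).1 g.2 3 (by omega)
    have hp2 : IsPath P.adj (P.n + 1) (fun i => (g : G) • p i) := isPath_smul hp g
    refine hR (p := fun i => (g : G) • p i) (i := 2) hp2 (by omega) ?_ ?_ ?_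
    · rw [hg2, e2]
      exact (Subgroup.mem_subgroupOf.1 ha).2
    · change (a : G) ∈ P.K ((g : G) • p 3)
      rw [hg3, e3]
      exact (Subgroup.mem_subgroupOf.1 ha).1
    · refine (mem_PS P).2 fun j hj => ?_
      rw [← hb2, mul_smul, inv_smul_smul, mul_smul]
      congr 1
      exact (mem_PS P).1 (Subgroup.mem_subgroupOf.1 hb') j hj

omit [Finite G] in
theorem caseB_k (hR : Rigid P) {b : Bool} {y y' : V} (hB : CaseB P b) (hy : P.tp y = b) (ho : P.Opp y y') :
    P.K y ⊓ P.S y' = ⊥ := by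
  have hn := n_pos P
  rw [eq_bot_iff]
  intro g hg
  obtain ⟨d, hd, rfl, rfl⟩ := ho
  obtain ⟨p, hp, hpd⟩ := exists_ext P hd (P.n + 1) (by omega)
  rw [← hpd 0 (by omega)] at hg hy
  rw [← hpd P.n le_rfl, K_opp_le_H P hp] at hg
  rw [Subgroup.mem_bot]
  have h1 : g ∈ P.K (p 1) := by
    refine hB.semireg hy (x := p 1) (w := p 2) (P.symm (hp.1 0 (by omega))) (P.symm (hp.1 1 (by omega))) (hp.2 0 (by omega)) ⟨hg.1, ?_⟩
    exact (mem_PS P).1 hg.2 2 (by omega)
  exact hR (i := 0) hp (by omega) hg.1 h1 hg.2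

end Cfsg.Agent.H372.Tits
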