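import Cfsg.Agent.H372.Tits.Cnt3
import Cfsg.Agent.H640.Tits.Geo

/-!
# S3414: all geometric facts (assembly of G2, helper640, and G3, helper372)
-/

set_option autoImplicit false

namespace Cfsg.Agent.H372.Tits

open Cfsg.Agent.H873.Tits

universe u v

theorem facts {G : Type u} [Group G] [Finite G] {V : Type v} [MulAction G V] [Finite V] (P : Pol G V) : Facts P where
  two_trans := H640.Tits.two_trans P
  two_trans' := H640.Tits.two_trans' P
  opp_symm := H640.Tits.opp_symm P
  opp_tp := H640.Tits.opp_tp P
  exists_opp := H640.Tits.exists_opp P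
  extend := H640.Tits.extend P
  extend3 := H640.Tits.extend3 P
  pair_trans := H640.Tits.pair_trans P
  path_trans := H640.Tits.path_trans P
  rigid := H640.Tits.rigid P
  K_opp := H640.Tits.K_opp P
  K_opp_H := H640.Tits.K_opp_H P
  card_k := card_k P
  count_opp := count_opp P
  count_T2 := count_T2 P
  relIndex_dvd := relIndex_dvd P
  count_KK := count_KK P
  count_main := count_main P
  fix_unique := H640.Tits.fix_unique P
  core := H640.Tits.core P
  proj_exists := H640.Tits.proj_exists P
  proj_opp := H640.Tits.proj_opp P
  proj_fix := H640.Tits.proj_fix P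
  caseB_card := caseB_card (H640.Tits.rigid P)
  caseB_k := caseB_k (H640.Tits.rigid P)

end Cfsg.Agent.H372.Tits
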