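import Cfsg.Agent.H873.Tits.Facts

/-!
# S3414, task G3: paths, shifting paths in an apartment, orders of the path stabilizers (helper372)
-/

set_option autoImplicit false

namespace Cfsg.Agent.H372.Tits

open Cfsg.Agent.H873.Tits MulAction

universe u v

variable {G : Type u} [Group G] {V : Type v} [MulAction G V] (P : Pol G V)

theorem mem_PS {k : ℕ} {p : ℕ → V} {g : G} : g ∈ P.PS k p ↔ ∀ i, i ≤ k → g • p i = p i := by
  unfold Pol.PS
  rw [Subgroup.mem_iInf]
  constructor
  · intro h i hi
    exact h ⟨i, hi⟩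
  · rintro h ⟨i, hi⟩
    exact h i hi

theorem PS_succ (k : ℕ) (p : ℕ → V) : P.PS (k + 1) p = P.PS k p ⊓ stabilizer G (p (k + 1)) := by
  ext g
  rw [Subgroup.mem_inf, mem_PS, mem_PS, mem_stabilizer_iff]
  constructor
  · intro h
    exact ⟨fun i hi => h i (by omega), h _ le_rfl⟩
  · rintro ⟨h1, h2⟩ i hi
    rcases Nat.lt_or_ge i (k + 1) with h | h
    · exact h1 i (by omega)
    · obtain rfl : i = k + 1 := by omega
      exact h2

theorem PS_zero (p : ℕ → V) : P.PS 0 p = P.S (p 0) := by
  ext g
  rw [mem_PS]
  constructor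
  · intro h
    exact h 0 le_rfl
  · intro h i hi
    obtain rfl : i = 0 := by omega
    exact h

theorem PS_anti {k l : ℕ} (h : k ≤ l) (p : ℕ → V) : P.PS l p ≤ P.PS k p := fun g hg =>
  (mem_PS P).2 fun i hi => (mem_PS P).1 hg i (by omega)

theorem H_le_S {p : ℕ → V} {i : ℕ} (hi : i ≤ P.n + 1) : P.H p ≤ P.S (p i) := fun _ hg => (mem_PS P).1 hg i hi

theorem n_pos : 4 ≤ P.n := by
  rcases P.hn with h | h | h <;> omega

theorem n_even : P.n = 2 * (P.n / 2) := by
  rcases P.hn with h | h | h <;> omega

/-! ### paths -/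

theorem IsPath.mono {adj : V → V → Prop} {k l : ℕ} {p : ℕ → V} (h : IsPath adj l p) (hk : k ≤ l) : IsPath adj k p :=
  ⟨fun i hi => h.1 i (by omega), fun i hi => h.2 i (by omega)⟩

theorem IsPath.shift {adj : V → V → Prop} {k j : ℕ} {p : ℕ → V} (h : IsPath adj (k + j) p) :
    IsPath adj k (fun i => p (i + j)) :=
  ⟨fun i hi => by
      have := h.1 (i + j) (by omega)
      rwa [show i + j + 1 = i + 1 + j by ring] at this,
    fun i hi => by
      have := h.2 (i + j) (by omega)
      rwa [show i + j + 2 = i + 2 + j by ring] at this⟩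

variable {P} in
theorem isPath_rev {k : ℕ} {p : ℕ → V} (h : IsPath P.adj k p) : IsPath P.adj k (fun i => p (k - i)) :=
  ⟨fun i hi => by
      have := h.1 (k - (i + 1)) (by omega)
      rw [show k - (i + 1) + 1 = k - i by omega] at this
      exact P.symm this,
    fun i hi => by
      have := h.2 (k - (i + 2)) (by omega)
      rw [show k - (i + 2) + 2 = k - i by omega] at this
      exact this.symm⟩

variable {P} in
theorem isPath_smul {k : ℕ} {p : ℕ → V} (h : IsPath P.adj k p) (g : G) : IsPath P.adj k (fun i => g • p i) :=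
  ⟨fun i hi => P.smul_adj g (h.1 i hi), fun i hi he => h.2 i hi (smul_left_cancel g he)⟩

/-- prolong a path by one vertex -/
def app (p : ℕ → V) (k : ℕ) (w : V) : ℕ → V := fun i => if i ≤ k then p i else w

theorem app_le {p : ℕ → V} {k : ℕ} {w : V} {i : ℕ} (h : i ≤ k) : app p k w i = p i := if_pos h

theorem app_succ (p : ℕ → V) (k : ℕ) (w : V) : app p k w (k + 1) = w := if_neg (by omega)

theorem isPath_app {adj : V → V → Prop} {p : ℕ → V} {k : ℕ} {w : V} (h : IsPath adj (k + 1) p) (h1 : adj (p (k + 1)) w)
    (h2 : w ≠ p k) : IsPath adj (k + 2) (app p (k + 1) w) := by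
  constructor
  · intro i hi
    rcases Nat.lt_or_ge i (k + 1) with h3 | h3
    · rw [app_le (by omega), app_le (by omega)]
      exact h.1 i h3
    · obtain rfl : i = k + 1 := by omega
      rw [app_le le_rfl, app_succ]
      exact h1
  · intro i hi
    rcases Nat.lt_or_ge (i + 1) (k + 1) with h3 | h3
    · rw [app_le (by omega), app_le (by omega)]
      exact h.2 i h3
    · obtain rfl : i = k := by omega
      rw [app_succ, app_le (by omega)]
      exact h2

/-- glue two paths -/
def glue (p : ℕ → V) (k : ℕ) (c : ℕ → V) : ℕ → V := fun i => if i ≤ k then p i else c (i - k)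

variable {P} in
/-- a path of length `1 + l` from a vertex and a path -/
theorem isPath_cons {l : ℕ} {c : ℕ → V} {a : V} (h : IsPath P.adj (l + 1) c) (h1 : P.adj a (c 0)) (h2 : a ≠ c 1) :
    IsPath P.adj (l + 2) (fun i => if i = 0 then a else c (i - 1)) := by
  constructor
  · intro i hi
    rcases Nat.eq_zero_or_pos i with rfl | h3
    · simpa using h1
    · simp only [if_neg (show i ≠ 0 by omega), if_neg (show i + 1 ≠ 0 by omega)]
      have := h.1 (i - 1) (by omega)
      rwa [show i - 1 + 1 = i + 1 - 1 by omega] at this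
  · intro i hi
    rcases Nat.eq_zero_or_pos i with rfl | h3
    · simpa using h2.symm
    · simp only [if_neg (show i ≠ 0 by omega), if_neg (show i + 2 ≠ 0 by omega)]
      have := h.2 (i - 1) (by omega)
      rwa [show i - 1 + 2 = i + 2 - 1 by omega] at this

/-- types along a path -/
theorem tp_path {k : ℕ} {p : ℕ → V} (h : IsPath P.adj k p) : ∀ i, i ≤ k → P.tp (p i) = (if Even i then P.tp (p 0) else !P.tp (p 0)) := by
  intro i
  induction i with
  | zero => intro _; simp
  | succ i ih =>
    intro hi
    rw [P.tp_adj (h.1 i (by omega)), ih (by omega)]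
    by_cases he : Even i
    · have : ¬ Even (i + 1) := by rw [Nat.even_add_one]; exact not_not.2 he
      rw [if_pos he, if_neg this]
    · have : Even (i + 1) := by rw [Nat.even_add_one]; exact he
      rw [if_neg he, if_pos this, Bool.not_not]

/-- paths with the same end vertices of length at most `n - 1` resp. with total length less than `2 n` -/
theorem fix_path {k : ℕ} {p : ℕ → V} (h : IsPath P.adj k p) (hk : k < P.n) {g : G} (h0 : g • p 0 = p 0)
    (h1 : g • p k = p k) : ∀ i, i ≤ k → g • p i = p i := by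
  intro i hi
  exact (P.path_unique (isPath_smul h g) h h0 h1 (by omega)).2 i hi

/-! ### shifting -/

/-- the other half of the apartment -/
theorem exists_back {p : ℕ → V} (h : IsPath P.adj (P.n + 1) p) : ∃ c : ℕ → V, IsPath P.adj (P.n - 1) c ∧
    c 0 = p (P.n + 1) ∧ c (P.n - 1) = p 0 := by
  have hn := n_pos P
  have he := n_even P
  obtain ⟨k, hk, c, hc, h0, h1⟩ := P.exists_path (p (P.n + 1)) (p 0)
  have h2 : k = P.n - 1 := by
    -- parity
    have h3 := tp_path P h (P.n + 1) le_rfl
    have h4 := tp_path P hc k le_rfl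
    rw [h0, h1] at h4
    have h5 : ¬ Even (P.n + 1) := by
      rw [Nat.even_add_one, not_not]
      exact ⟨P.n / 2, by omega⟩
    rw [if_neg h5] at h3
    have h6 : ¬ Even k := by
      intro h7
      rw [if_pos h7, h3] at h4
      cases h8 : P.tp (p 0) <;> rw [h8] at h4 <;> exact absurd h4 (by decide)
    have h7 : k ≠ P.n := by
      rintro rfl
      exact h6 ⟨P.n / 2, by omega⟩
    by_contra hne
    have hlt : k + (P.n + 1) < 2 * P.n := by
      have : k ≠ P.n - 2 := by
        rintro rfl
        exact h6 ⟨P.n / 2 - 1, by omega⟩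
      omega
    have h8 := (P.path_unique hc (isPath_rev h) (by simpa using h0) (by simpa using h1) hlt).1
    omega
  subst h2
  exact ⟨c, hc, h0, h1⟩

/-- **shifting a path of length `n + 1` in its apartment** -/
theorem exists_shift {p : ℕ → V} (h : IsPath P.adj (P.n + 1) p) : ∃ p' : ℕ → V, IsPath P.adj (P.n + 1) p' ∧
    (∀ j, j ≤ P.n → p' j = p (j + 1)) ∧ P.H p' = P.H p := by
  have hn := n_pos P
  obtain ⟨c, hc, h0, h1⟩ := exists_back P h
  obtain ⟨N, hN⟩ : ∃ N, P.n = N + 3 := ⟨P.n - 3, by omega⟩
  have e1 : P.n - 1 = N + 2 := by omega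
  rw [e1] at hc h1
  -- `c 1 ≠ p n`
  have hc1 : c 1 ≠ p P.n := by
    intro he
    have h2 : IsPath P.adj (N + 1) (fun i => c (i + 1)) := IsPath.shift hc
    have h3 := (P.path_unique h2 (isPath_rev (IsPath.mono h (by omega : P.n ≤ P.n + 1))) (by simpa using he) (by simpa using h1) (by omega)).1
    omega
  have hcN : c (N + 1) ≠ p 1 := by
    intro he
    have h2 : IsPath P.adj (N + 1) c := ⟨fun i hi => hc.1 i (by omega), fun i hi => hc.2 i (by omega)⟩
    have h3 : IsPath P.adj P.n (fun i => p (i + 1)) := IsPath.shift h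
    have h4 := (P.path_unique h2 (isPath_rev h3) (by simpa using h0) (by simpa using he) (by omega)).1
    omega
  have hs : IsPath P.adj P.n (fun i => p (i + 1)) := IsPath.shift h
  have hp' : IsPath P.adj (P.n + 1) (app (fun i => p (i + 1)) P.n (c 1)) := by
    obtain ⟨k, hk⟩ : ∃ k, P.n = k + 1 := ⟨P.n - 1, by omega⟩
    rw [hk] at hs ⊢
    refine isPath_app hs ?_ ?_
    · have := hc.1 0 (by omega)
      rw [h0, hk] at this
      exact this
    · rw [← hk]
      simpa [hk] using hc1
  refine ⟨_, hp', fun j hj => app_le hj, le_antisymm ?_ ?_⟩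
  · intro g hg
    have hg' := (mem_PS P).1 hg
    have hf : ∀ j, j ≤ P.n → g • p (j + 1) = p (j + 1) := by
      intro j hj
      have := hg' j (by omega)
      rwa [app_le hj] at this
    have hf1 : g • c 1 = c 1 := by
      have := hg' (P.n + 1) le_rfl
      rwa [app_succ] at this
    have hd : IsPath P.adj (N + 1) (fun i => c (N + 2 - i)) := IsPath.mono (isPath_rev hc) (by omega)
    have hd2 := isPath_cons (a := p 1) hd (by simpa [h1] using P.symm (h.1 0 (by omega))) (by simpa using hcN.symm)
    have h5 := fix_path P hd2 (by omega) (g := g) (by simpa using hf 0 (by omega)) (by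
      simp only [if_neg (show N + 2 ≠ 0 by omega)]
      rw [show N + 2 - (N + 2 - 1) = 1 by omega]
      exact hf1) 1 (by omega)
    have h6 : g • p 0 = p 0 := by
      simpa [h1] using h5
    refine (mem_PS P).2 fun i hi => ?_
    rcases Nat.eq_zero_or_pos i with rfl | h7
    · exact h6
    · have := hf (i - 1) (by omega)
      rwa [show i - 1 + 1 = i by omega] at this
  · intro g hg
    have hg' := (mem_PS P).1 hg
    have h5 := fix_path P hc (by omega) (g := g) (by rw [h0]; exact hg' _ le_rfl) (by rw [h1]; exact hg' _ (by omega)) 1 (by omega)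
    refine (mem_PS P).2 fun i hi => ?_
    rcases Nat.lt_or_ge i (P.n + 1) with h7 | h7
    · rw [app_le (by omega)]
      exact hg' _ (by omega)
    · obtain rfl : i = P.n + 1 := by omega
      rw [app_succ]
      exact h5

end Cfsg.Agent.H372.Tits
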